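import Groth.Agent.InvExtend.CartierCriterion
import Groth.Agent.DepthSections.Apps
import Mathlib

/-! Sections extend uniquely across a closed set with regular pairs in the local rings. -/

set_option linter.style.haveILetI false

namespace Groth.Agent.PairExtend

open AlgebraicGeometry CategoryTheory TopologicalSpace Opposite
open Groth.Agent.InvExtend (pt pt_mem primeIdealOf_pt mem_basicOpen_iff)

universe u

/-- The maximal ideal contains a regular pair. -/
def HasPair (R : Type u) [CommRing R] : Prop :=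
  ∃ a b : R, ¬ IsUnit a ∧ ¬ IsUnit b ∧ (∀ c, a * c = 0 → c = 0) ∧ ∀ c, a ∣ b * c → a ∣ c

theorem HasPair.of_ringEquiv {R S : Type u} [CommRing R] [CommRing S] (e : R ≃+* S)
    (h : HasPair R) : HasPair S := by
  obtain ⟨a, b, ha, hb, h1, h2⟩ := h
  refine ⟨e a, e b, fun hu => ha ((isUnit_map_iff e a).1 hu), fun hu => hb ((isUnit_map_iff e b).1 hu),
    fun c hc => ?_, fun c hc => ?_⟩
  · obtain ⟨c, rfl⟩ := e.surjective c
    rw [← map_mul, map_eq_zero_iff e e.injective] at hc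
    rw [h1 c hc, map_zero]
  · obtain ⟨c, rfl⟩ := e.surjective c
    obtain ⟨d, hd⟩ := hc
    obtain ⟨d, rfl⟩ := e.surjective d
    rw [← map_mul, ← map_mul] at hd
    exact map_dvd e (h2 c ⟨d, e.injective hd⟩)

theorem hasPair_of_isWeaklyRegular {R : Type u} [CommRing R] [IsLocalRing R] {a b : R}
    (ha : a ∈ IsLocalRing.maximalIdeal R) (hb : b ∈ IsLocalRing.maximalIdeal R)
    (h : RingTheory.Sequence.IsWeaklyRegular R [a, b]) : HasPair R := by
  rw [RingTheory.Sequence.isWeaklyRegular_cons_iff,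
    RingTheory.Sequence.isWeaklyRegular_cons_iff] at h
  obtain ⟨h1, h2, -⟩ := h
  refine ⟨a, b, ha, hb, fun c hc => h1 (hc.trans (smul_zero a).symm), fun c ⟨d, hd⟩ => ?_⟩
  have : (Submodule.Quotient.mk c : QuotSMulTop a R) = 0 := by
    refine h2 ?_
    change b • (Submodule.Quotient.mk c : QuotSMulTop a R) = b • (0 : QuotSMulTop a R)
    rw [smul_zero, ← Submodule.Quotient.mk_smul, Submodule.Quotient.mk_eq_zero,
      Submodule.mem_smul_pointwise_iff_exists]
    exact ⟨d, trivial, hd.symm⟩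
  rw [Submodule.Quotient.mk_eq_zero, Submodule.mem_smul_pointwise_iff_exists] at this
  obtain ⟨e, -, he⟩ := this
  exact ⟨e, he.symm⟩

section Pow

variable {R : Type u} [CommRing R] {a b : R} (h1 : ∀ c, a * c = 0 → c = 0)
  (h2 : ∀ c, a ∣ b * c → a ∣ c)

include h1 in
theorem pow_mul_eq_zero (n : ℕ) : ∀ c, a ^ n * c = 0 → c = 0 := by
  induction n with
  | zero => simp
  | succ n ih => intro c hc; exact h1 c (ih _ (by rw [← mul_assoc, ← pow_succ]; exact hc))

include h2 in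
theorem dvd_of_dvd_pow_mul (n : ℕ) : ∀ c, a ∣ b ^ n * c → a ∣ c := by
  induction n with
  | zero => simp
  | succ n ih => intro c hc; exact h2 c (ih _ (by rw [← mul_assoc, ← pow_succ]; exact hc))

include h1 h2 in
theorem pow_dvd_of_dvd_pow_mul (n : ℕ) : ∀ (m : ℕ) (c : R), a ^ m ∣ b ^ n * c → a ^ m ∣ c := by
  intro m
  induction m with
  | zero => simp
  | succ m ih =>
    intro c hc
    obtain ⟨c₁, rfl⟩ := dvd_of_dvd_pow_mul h2 n c ((dvd_pow_self a m.succ_ne_zero).trans hc)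
    obtain ⟨d, hd⟩ := hc
    rw [pow_succ', mul_dvd_mul_iff_left' h1]
    refine ih c₁ ⟨d, sub_eq_zero.1 (h1 _ ?_)⟩
    linear_combination hd
where
  mul_dvd_mul_iff_left' {R : Type u} [CommRing R] {a x y : R} (h1 : ∀ c, a * c = 0 → c = 0) :
      a * x ∣ a * y ↔ x ∣ y :=
    ⟨fun ⟨d, hd⟩ => ⟨d, sub_eq_zero.1 (h1 _ (by linear_combination hd))⟩, mul_dvd_mul_left a⟩

end Pow

section Core

variable {A M : Type u} [CommRing A] [AddCommGroup M] [Module A M]

theorem exists_mul_pow_mem {I p : Ideal A} (hp : p ∈ I.minimalPrimes) {x : A} (hx : x ∈ p) :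
    ∃ s ∉ p, ∃ n : ℕ, s * x ^ n ∈ I := by
  haveI := hp.isPrime
  by_contra! h
  have hd : Disjoint (I : Set A) ↑(p.primeCompl ⊔ Submonoid.powers x) := by
    rw [Set.disjoint_left]
    intro r hr hr'
    obtain ⟨s, hs, _, ⟨n, rfl⟩, rfl⟩ := Submonoid.mem_sup.1 hr'
    exact h s hs n hr
  obtain ⟨q, hq, hIq, hqd⟩ := Ideal.exists_le_prime_disjoint I _ hd
  have hqp : q ≤ p := fun r hr => by
    by_contra hrp
    exact Set.disjoint_left.1 hqd hr (Submonoid.mem_sup_left hrp)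
  exact Set.disjoint_left.1 hqd (hp.2 ⟨hq, hIq⟩ hqp hx)
    (Submonoid.mem_sup_right (Submonoid.mem_powers x))

/-- `A → M` is bijective if it is so off a set of primes with regular pairs. -/
theorem bijective_core (f : A →ₗ[A] M) (Z : Set (PrimeSpectrum A))
    (hker : ∀ a, f a = 0 → ∀ p ∉ Z, ∃ s ∉ p.asIdeal, s * a = 0)
    (hsurj : ∀ m, ∀ p ∉ Z, ∃ s ∉ p.asIdeal, s • m ∈ LinearMap.range f)
    (hpair : ∀ p ∈ Z, ∃ a b : A, a ∈ p.asIdeal ∧ b ∈ p.asIdeal ∧
      (∀ (n : ℕ) (c : A), a ^ n * c = 0 → ∃ s ∉ p.asIdeal, s * c = 0) ∧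
      (∀ (n : ℕ) (c d : A), b ^ n * c = a ^ n * d → ∃ s ∉ p.asIdeal, ∃ e, s * c = a ^ n * e) ∧
      ∀ (n : ℕ) (y : M), a ^ n • y = 0 → ∃ s ∉ p.asIdeal, s • y = 0) :
    Function.Bijective f := by
  have hinj : Function.Injective f := by
    rw [injective_iff_map_eq_zero]
    intro c hc
    by_contra hc0
    let I : Ideal A := LinearMap.ker (LinearMap.toSpanSingleton A A c)
    have hI : ∀ s, s ∈ I ↔ s * c = 0 := fun s => by simp [I]
    have hne : I ≠ ⊤ := fun h => hc0 (by simpa using (hI 1).1 (h ▸ trivial))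
    obtain ⟨m, hm, hIm⟩ := Ideal.exists_le_maximal I hne
    obtain ⟨p, hp, -⟩ := Ideal.exists_minimalPrimes_le hIm
    let P : PrimeSpectrum A := ⟨p, hp.isPrime⟩
    by_cases hP : P ∈ Z
    · obtain ⟨a, b, ha, -, h1, -, -⟩ := hpair P hP
      obtain ⟨s, hs, n, hsn⟩ := exists_mul_pow_mem hp ha
      obtain ⟨t, ht, htc⟩ := h1 n (s * c) (by rw [← mul_assoc, mul_comm _ s]; exact (hI _).1 hsn)
      exact hp.isPrime.mul_notMem ht hs (hp.le ((hI _).2 (by rw [mul_assoc]; exact htc)))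
    · obtain ⟨s, hs, hsc⟩ := hker c hc P hP
      exact hs (hp.le ((hI s).2 hsc))
  refine ⟨hinj, fun y => ?_⟩
  by_contra hy
  let I : Ideal A := (LinearMap.range f).comap (LinearMap.toSpanSingleton A M y)
  have hI : ∀ s, s ∈ I ↔ s • y ∈ LinearMap.range f := fun s => by simp [I]
  have hne : I ≠ ⊤ := fun h => hy (by simpa using (hI 1).1 (h ▸ trivial))
  obtain ⟨m, hm, hIm⟩ := Ideal.exists_le_maximal I hne
  obtain ⟨p, hp, -⟩ := Ideal.exists_minimalPrimes_le hIm
  let P : PrimeSpectrum A := ⟨p, hp.isPrime⟩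
  by_cases hP : P ∈ Z
  · obtain ⟨a, b, ha, hb, h1, h2, h3⟩ := hpair P hP
    obtain ⟨s₁, hs₁, n₁, hsn₁⟩ := exists_mul_pow_mem hp ha
    obtain ⟨s₂, hs₂, n₂, hsn₂⟩ := exists_mul_pow_mem hp hb
    obtain ⟨v₁, hv₁⟩ := (hI (s₁ * s₂ * a ^ (n₁ + n₂))).1
      (by rw [show s₁ * s₂ * a ^ (n₁ + n₂) = (s₁ * a ^ n₁) * (s₂ * a ^ n₂) by ring]
          exact I.mul_mem_right _ hsn₁)
    obtain ⟨v₂, hv₂⟩ := (hI (s₁ * s₂ * b ^ (n₁ + n₂))).1
      (by rw [show s₁ * s₂ * b ^ (n₁ + n₂) = (s₂ * b ^ n₂) * (s₁ * b ^ n₁) by ring]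
          exact I.mul_mem_right _ hsn₂)
    have heq : b ^ (n₁ + n₂) * v₁ = a ^ (n₁ + n₂) * v₂ := hinj (by
      rw [← smul_eq_mul, ← smul_eq_mul, map_smul, map_smul, hv₁, hv₂, smul_smul, smul_smul]
      congr 1; ring)
    obtain ⟨t, ht, e, he⟩ := h2 _ v₁ v₂ heq
    obtain ⟨r, hr, hre⟩ := h3 (n₁ + n₂) ((t * (s₁ * s₂)) • y - f e) (by
      have h5 : f (t * v₁) = t • f v₁ := (f.map_smul t v₁)
      rw [smul_sub, ← map_smul, smul_eq_mul, ← he, h5, hv₁, smul_smul,
        smul_smul, sub_eq_zero]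
      congr 1; ring)
    have hmem : r * (t * (s₁ * s₂)) ∈ I := by
      rw [hI]
      rw [smul_sub, sub_eq_zero, smul_smul] at hre
      exact ⟨r • e, by rw [map_smul, ← hre]⟩
    exact hp.isPrime.mul_notMem hr (hp.isPrime.mul_notMem ht (hp.isPrime.mul_notMem hs₁ hs₂))
      (hp.le hmem)
  · obtain ⟨s, hs, hsy⟩ := hsurj y P hP
    exact hs (hp.le ((hI s).2 hsy))

end Core

variable {X : Scheme.{u}}

/-- Functions on an affine open extend uniquely across regular pairs. -/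
theorem bijective_affine (U : X.Opens) [QuasiCompact U.ι]
    (h : ∀ x : X, x ∉ U → HasPair (X.presheaf.stalk x)) {W : X.Opens} (hW : IsAffineOpen W) :
    Function.Bijective (X.presheaf.map (homOfLE (inf_le_left : W ⊓ U ≤ W)).op) := by
  classical
  letI : Algebra Γ(X, W) Γ(X, W ⊓ U) := (X.presheaf.map (homOfLE (inf_le_left : W ⊓ U ≤ W)).op).hom.toAlgebra
  have hcpt : IsCompact ((W ⊓ U : X.Opens) : Set X) := by
    have h1 := (U.ι.isCompact_preimage hW.isCompact).image U.ι.continuous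
    have h2 : U.ι '' (U.ι ⁻¹' (W : Set X)) = ((W ⊓ U : X.Opens) : Set X) := by
      rw [Set.image_preimage_eq_inter_range, Scheme.Opens.range_ι]; rfl
    exact h2 ▸ h1
  have hqs : IsQuasiSeparated ((W ⊓ U : X.Opens) : Set X) :=
    hW.isQuasiSeparated.of_subset inf_le_left
  -- localisation on basic opens inside `U`
  have hloc : ∀ g : Γ(X, W), X.basicOpen g ≤ U →
      (∀ a, algebraMap Γ(X, W) Γ(X, W ⊓ U) a = 0 → ∃ n, g ^ n * a = 0) ∧
      (∀ m : Γ(X, W ⊓ U), ∃ n a, g ^ n • m = algebraMap Γ(X, W) Γ(X, W ⊓ U) a) := by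
    intro g hg
    let gU := X.presheaf.map (homOfLE (inf_le_left : W ⊓ U ≤ W)).op g
    have hb : X.basicOpen gU = X.basicOpen g := by
      rw [Scheme.basicOpen_res]
      exact inf_eq_right.2 (le_inf (X.basicOpen_le g) hg)
    have hgW : X.basicOpen g ≤ W ⊓ U := le_inf (X.basicOpen_le g) hg
    haveI : IsLocalization.Away g Γ(X, X.basicOpen g) := hW.isLocalization_basicOpen g
    haveI hL := isLocalization_basicOpen_of_qcqs hcpt hqs gU
    have hr : ∀ a, X.presheaf.map (homOfLE (X.basicOpen_le g)).op a =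
        X.presheaf.map (homOfLE hgW).op (algebraMap Γ(X, W) Γ(X, W ⊓ U) a) := fun a => by
      rw [RingHom.algebraMap_toAlgebra, ← ConcreteCategory.comp_apply, ← Functor.map_comp]
      rfl
    constructor
    · intro a ha
      have : algebraMap Γ(X, W) Γ(X, X.basicOpen g) a = 0 := by
        change X.presheaf.map (homOfLE (X.basicOpen_le g)).op a = 0
        rw [hr, ha, map_zero]
      obtain ⟨⟨_, n, rfl⟩, hn⟩ := (IsLocalization.map_eq_zero_iff (Submonoid.powers g) _ a).1 this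
      exact ⟨n, hn⟩
    · intro m
      obtain ⟨⟨a, ⟨_, n, rfl⟩⟩, ha⟩ := IsLocalization.surj (Submonoid.powers g)
        (X.presheaf.map (homOfLE hgW).op m)
      have h0 : X.presheaf.map (homOfLE (X.basicOpen_le gU)).op
          (gU ^ n * m - algebraMap Γ(X, W) Γ(X, W ⊓ U) a) = 0 := by
        have h3 : X.presheaf.map (homOfLE hgW).op (gU ^ n * m - algebraMap Γ(X, W) Γ(X, W ⊓ U) a) = 0 := by
          rw [map_sub, sub_eq_zero, ← hr, map_mul, map_pow, mul_comm]
          refine Eq.trans ?_ ha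
          congr 1
          rw [RingHom.algebraMap_toAlgebra, map_pow]
          congr 1
          exact (hr g).symm
        have h4 : (homOfLE (X.basicOpen_le gU)).op = (homOfLE hgW).op ≫ (eqToHom hb).op :=
          Subsingleton.elim _ _
        rw [h4, Functor.map_comp, ConcreteCategory.comp_apply, h3, map_zero]
      obtain ⟨⟨_, k, rfl⟩, hk⟩ := (IsLocalization.map_eq_zero_iff (Submonoid.powers gU)
        Γ(X, X.basicOpen gU) _).1 h0
      refine ⟨k + n, g ^ k * a, ?_⟩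
      rw [Algebra.smul_def, map_mul, map_pow, map_pow, pow_add, mul_assoc]
      rw [mul_sub, sub_eq_zero] at hk
      exact hk
  -- finite cover
  let S : Set Γ(X, W) := {g | X.basicOpen g ≤ U}
  have hcov : ((W ⊓ U : X.Opens) : Set X) ⊆ ⋃ g : S, (X.basicOpen (g : Γ(X, W)) : Set X) := by
    intro z hz
    obtain ⟨g, hg, hzg⟩ := hW.exists_basicOpen_le (V := U) ⟨z, hz.2⟩ hz.1
    exact Set.mem_iUnion.2 ⟨⟨g, hg⟩, hzg⟩
  obtain ⟨T, hT⟩ := hcpt.elim_finite_subcover _ (fun g : S => (X.basicOpen (g : Γ(X, W))).2) hcov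
  have hz : ∀ y : Γ(X, W ⊓ U), (∀ g ∈ T, ∃ n, (g : Γ(X, W)) ^ n • y = 0) → y = 0 := by
    intro y hy
    apply TopCat.Sheaf.eq_of_locally_eq' X.sheaf (fun g : T => X.basicOpen ((g : S) : Γ(X, W))) (W ⊓ U)
      (fun g => homOfLE (le_inf (X.basicOpen_le _) (g : S).2))
    · intro z hz
      obtain ⟨g, hg, hzg⟩ := Set.mem_iUnion₂.1 (hT hz)
      exact Opens.mem_iSup.2 ⟨⟨g, hg⟩, hzg⟩
    · rintro ⟨⟨g, hgU⟩, hgT⟩
      obtain ⟨n, hn⟩ := hy _ hgT
      have hle : X.basicOpen g ≤ W ⊓ U := le_inf (X.basicOpen_le g) hgU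
      have h1 := congrArg (X.presheaf.map (homOfLE hle).op) hn
      rw [Algebra.smul_def, map_mul, map_zero, RingHom.algebraMap_toAlgebra, map_pow, map_pow] at h1
      have hu : IsUnit (X.presheaf.map (homOfLE hle).op
          (X.presheaf.map (homOfLE (inf_le_left : W ⊓ U ≤ W)).op g)) := by
        rw [← ConcreteCategory.comp_apply, ← Functor.map_comp]
        exact X.toRingedSpace.isUnit_res_basicOpen g
      rw [(hu.pow n).mul_right_eq_zero] at h1
      exact h1.trans (map_zero _).symm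
  have hout : ∀ p : PrimeSpectrum Γ(X, W), hW.fromSpec p ∈ U → ∃ g, X.basicOpen g ≤ U ∧ g ∉ p.asIdeal := by
    intro p hp
    obtain ⟨g, hg, hzg⟩ := hW.exists_basicOpen_le (V := U) ⟨_, hp⟩ (hW.range_fromSpec.le ⟨p, rfl⟩)
    refine ⟨g, hg, ?_⟩
    have : p ∈ hW.fromSpec ⁻¹ᵁ X.basicOpen g := hzg
    rw [hW.fromSpec_preimage_basicOpen] at this
    exact this
  refine bijective_core (Algebra.linearMap Γ(X, W) Γ(X, W ⊓ U)) {p | hW.fromSpec p ∉ U}
    (fun a ha p hp => ?_) (fun m p hp => ?_) (fun p hp => ?_)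
  · obtain ⟨g, hg, hgp⟩ := hout p (not_not.1 hp)
    obtain ⟨n, hn⟩ := (hloc g hg).1 a ha
    exact ⟨g ^ n, fun h' => hgp (p.2.mem_of_pow_mem n h'), hn⟩
  · obtain ⟨g, hg, hgp⟩ := hout p (not_not.1 hp)
    obtain ⟨n, a, hn⟩ := (hloc g hg).2 m
    exact ⟨g ^ n, fun h' => hgp (p.2.mem_of_pow_mem n h'), a, hn.symm⟩
  have hzW : hW.fromSpec p ∈ W := hW.range_fromSpec.le ⟨p, rfl⟩
  let R := X.presheaf.stalk (hW.fromSpec p)
  letI : Algebra Γ(X, W) R := TopCat.Presheaf.algebra_section_stalk X.presheaf (⟨_, hzW⟩ : W)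
  haveI : IsLocalization.AtPrime R p.asIdeal := hW.isLocalization_stalk' p hzW
  obtain ⟨a', b', ha', hb', h1, h2⟩ := h _ hp
  obtain ⟨⟨a, s⟩, has⟩ := IsLocalization.surj p.asIdeal.primeCompl a'
  obtain ⟨⟨b, t⟩, hbt⟩ := IsLocalization.surj p.asIdeal.primeCompl b'
  have hu : ∀ s : p.asIdeal.primeCompl, IsUnit (algebraMap Γ(X, W) R s) := IsLocalization.map_units R
  have ha1 : ∀ c : R, algebraMap _ R a * c = 0 → c = 0 := fun c hc => h1 c (by
    rw [← has, mul_right_comm] at hc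
    exact (hu s).mul_left_eq_zero.1 hc)
  have hb1 : ∀ c : R, algebraMap _ R a ∣ algebraMap _ R b * c → algebraMap _ R a ∣ c := fun c hc => by
    rw [← has] at hc ⊢
    rw [← hbt, mul_right_comm] at hc
    rw [(hu s).mul_right_dvd, (hu t).dvd_mul_right] at hc
    rw [(hu s).mul_right_dvd]
    exact h2 c hc
  have hmem : ∀ {a : Γ(X, W)} {a' : R} {s : p.asIdeal.primeCompl}, ¬ IsUnit a' →
      a' * algebraMap Γ(X, W) R s = algebraMap Γ(X, W) R a → a ∈ p.asIdeal := fun {a a' s} ha he => by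
    by_contra hap
    exact ha (isUnit_of_mul_isUnit_left (he.symm ▸ IsLocalization.map_units R (⟨a, hap⟩ : p.asIdeal.primeCompl)))
  have hA : ∀ (n : ℕ) (c : Γ(X, W)), a ^ n * c = 0 → ∃ s ∉ p.asIdeal, s * c = 0 := by
    intro n c hc
    obtain ⟨⟨r, hr⟩, hrc⟩ := (IsLocalization.map_eq_zero_iff p.asIdeal.primeCompl R c).1
      (pow_mul_eq_zero ha1 n _ (by rw [← map_pow, ← map_mul, hc, map_zero]))
    exact ⟨r, hr, hrc⟩
  refine ⟨a, b, hmem ha' has, hmem hb' hbt, hA, fun n c d hcd => ?_, fun n y hy => ?_⟩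
  · obtain ⟨e, he⟩ := pow_dvd_of_dvd_pow_mul ha1 hb1 n n (algebraMap _ R c)
      ⟨algebraMap _ R d, by rw [← map_pow, ← map_pow, ← map_mul, ← map_mul, hcd]⟩
    obtain ⟨⟨e₀, r⟩, her⟩ := IsLocalization.surj p.asIdeal.primeCompl e
    have : algebraMap Γ(X, W) R (r * c) = algebraMap Γ(X, W) R (a ^ n * e₀) := by
      rw [map_mul, map_mul, ← her, he, map_pow]; ring
    obtain ⟨w, hw⟩ := (IsLocalization.eq_iff_exists p.asIdeal.primeCompl R).1 this
    refine ⟨(w : Γ(X, W)) * r, p.2.mul_notMem w.2 r.2, (w : Γ(X, W)) * e₀, ?_⟩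
    linear_combination hw
  · have key : ∀ g : S, ∃ s ∉ p.asIdeal, ∃ k, (g : Γ(X, W)) ^ k • (s • y) = 0 := by
      rintro ⟨g, hg⟩
      obtain ⟨k, e, hk⟩ := (hloc g hg).2 y
      obtain ⟨l, hl⟩ := (hloc g hg).1 (a ^ n * e) (by
        rw [map_mul, ← hk, Algebra.smul_def (g ^ k), ← mul_assoc, mul_comm (algebraMap _ _ (a ^ n)), mul_assoc,
          ← Algebra.smul_def (a ^ n), hy, mul_zero])
      obtain ⟨s, hs, hse⟩ := hA n (g ^ l * e) (by linear_combination hl)
      refine ⟨s, hs, l + k, ?_⟩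
      change g ^ (l + k) • (s • y) = 0
      rw [smul_smul, show g ^ (l + k) * s = (s * g ^ l) * g ^ k by ring, mul_smul, hk, Algebra.smul_def,
        ← map_mul, mul_assoc, hse, map_zero]
    choose s hs k hk using key
    refine ⟨∏ g ∈ T, s g, fun hmem => ?_, hz _ fun g hg => ⟨k g, ?_⟩⟩
    · obtain ⟨g, -, hg⟩ := p.2.prod_mem_iff.1 hmem
      exact hs g hg
    · rw [← Finset.mul_prod_erase T s hg, mul_comm (s g), mul_smul, smul_comm, hk, smul_zero]

/-- Functions extend uniquely across regular pairs. -/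
theorem bijective_restrict_ring (U : X.Opens) [QuasiCompact U.ι]
    (h : ∀ x : X, x ∉ U → HasPair (X.presheaf.stalk x)) (V : X.Opens) :
    Function.Bijective (X.presheaf.map (homOfLE (inf_le_left : V ⊓ U ≤ V)).op) :=
  Groth.Agent.DepthSections.bijective_restrict_of_affine (Coh.structureModule X) U
    (fun hW => bijective_affine U h hW) V

end Groth.Agent.PairExtend
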