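import Groth.Agent.PairExtend.Basic

/-! Morphisms to schemes affine over a base extend across regular pairs (after `DepthSections.Maps`). -/

set_option linter.style.haveILetI false

namespace Groth.Agent.PairExtend

open AlgebraicGeometry CategoryTheory Limits TopologicalSpace Opposite

universe u

/-- Global functions extend from an open with complement of depth two. -/
theorem bijective_appTop_of_depth {X : Scheme.{u}} {U : Scheme.{u}}
    (j : U ⟶ X) [IsOpenImmersion j] [QuasiCompact j]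
    (hU : ∀ x : X, x ∉ j.opensRange → HasPair (X.presheaf.stalk x)) :
    Function.Bijective j.appTop := by
  haveI : QuasiCompact j.opensRange.ι := by
    rw [← Scheme.Hom.isoOpensRange_inv_comp j]; infer_instance
  have h := bijective_restrict_ring j.opensRange hU ⊤
  have hι : Function.Bijective j.opensRange.ι.appTop := by
    have himg : j.opensRange.ι ''ᵁ ⊤ = ⊤ ⊓ j.opensRange := by rw [top_inf_eq, Scheme.Opens.ι_image_top]
    change Function.Bijective (j.opensRange.ι.app ⊤)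
    rw [Scheme.Opens.ι_app]
    have h2 := ConcreteCategory.bijective_of_isIso (X.presheaf.map (eqToHom himg).op)
    refine cast ?_ (h2.comp h)
    congr 1
    funext s
    rw [Function.comp_apply, ← ConcreteCategory.comp_apply, ← Functor.map_comp]
    rfl
  haveI : IsIso j.isoOpensRange.hom.appTop := inferInstanceAs (IsIso (Scheme.Γ.map j.isoOpensRange.hom.op))
  have hcomp : j.appTop = j.opensRange.ι.appTop ≫ j.isoOpensRange.hom.appTop := by
    rw [← Scheme.Hom.comp_appTop, Scheme.Hom.isoOpensRange_hom_ι]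
  rw [hcomp]
  exact (ConcreteCategory.bijective_of_isIso j.isoOpensRange.hom.appTop).comp hι

/-- Morphisms to an affine scheme are determined by, and extend from, an open dense enough. -/
theorem existsUnique_extend_affine {X Y : Scheme.{u}} [IsAffine Y] {U : Scheme.{u}}
    (j : U ⟶ X) [IsOpenImmersion j] [QuasiCompact j]
    (hU : ∀ x : X, x ∉ j.opensRange → HasPair (X.presheaf.stalk x))
    (f : U ⟶ Y) : ∃! g : X ⟶ Y, j ≫ g = f := by
  have hbij : Function.Bijective j.appTop := bijective_appTop_of_depth j hU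
  haveI : IsIso j.appTop := (ConcreteCategory.isIso_iff_bijective _).mpr hbij
  obtain ⟨φ, hφ⟩ : ∃ φ, φ = f.appTop ≫ inv j.appTop := ⟨_, rfl⟩
  refine ⟨X.toSpecΓ ≫ Spec.map φ ≫ Y.isoSpec.inv, ?_, fun g hg => ?_⟩
  · show j ≫ X.toSpecΓ ≫ Spec.map φ ≫ Y.isoSpec.inv = f
    rw [← cancel_mono Y.isoSpec.hom]
    simp only [Category.assoc, Iso.inv_hom_id, Category.comp_id]
    have hf : f ≫ Y.isoSpec.hom = U.toSpecΓ ≫ Spec.map f.appTop := Scheme.toSpecΓ_naturality f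
    have hι : j ≫ X.toSpecΓ = U.toSpecΓ ≫ Spec.map j.appTop := Scheme.toSpecΓ_naturality j
    rw [hf, ← Category.assoc, hι, Category.assoc, ← Spec.map_comp]
    rw [hφ, Category.assoc, IsIso.inv_hom_id, Category.comp_id]
  · have h2 : (X.toSpecΓ ≫ Spec.map φ ≫ Y.isoSpec.inv) ≫ Y.isoSpec.hom = X.toSpecΓ ≫ Spec.map φ := by
      simp only [Category.assoc, Iso.inv_hom_id, Category.comp_id]
    have hg' : g.appTop = φ := by
      rw [hφ, IsIso.eq_comp_inv, ← Scheme.Hom.comp_appTop, hg]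
    have h3 : g ≫ Y.isoSpec.hom = (X.toSpecΓ ≫ Spec.map φ ≫ Y.isoSpec.inv) ≫ Y.isoSpec.hom := by
      rw [h2, ← hg']
      exact Scheme.toSpecΓ_naturality g
    exact (cancel_mono _).mp h3

variable {Z S G P : Scheme.{u}} (p : Z ⟶ S) (q : G ⟶ S) [IsAffineHom q]
  (j : P ⟶ Z) [IsOpenImmersion j] [QuasiCompact j]
  (hU : ∀ z : Z, z ∉ j.opensRange → HasPair (Z.presheaf.stalk z))

include hU in
theorem existsUnique_extend_piece (V : S.Opens) (hV : IsAffineOpen V) (O : Z.Opens) (hO : O ≤ p ⁻¹ᵁ V)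
    (ψ : P ⟶ G) (hψ : ψ ≫ q = j ≫ p) :
    ∃! g : (O : Scheme.{u}) ⟶ G, g ≫ q = O.ι ≫ p ∧ (j ⁻¹ᵁ O).ι ≫ ψ = (j ∣_ O) ≫ g := by
  haveI : IsAffine (q ⁻¹ᵁ V : Scheme.{u}) := hV.preimage q
  haveI : IsAffine (V : Scheme.{u}) := hV
  haveI : QuasiCompact (j ∣_ O) := MorphismProperty.of_isPullback (isPullback_morphismRestrict j O).flip inferInstance
  have hU' : ∀ x : (O : Scheme.{u}), x ∉ (j ∣_ O).opensRange →
      HasPair ((O : Scheme.{u}).presheaf.stalk x) := by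
    intro x hx
    refine HasPair.of_ringEquiv (O.stalkIso x).symm.commRingCatIsoToRingEquiv (hU x.1 fun hmem => hx ?_)
    obtain ⟨w, hw⟩ := hmem
    have hwO : w ∈ j ⁻¹ᵁ O := by
      show j w ∈ O
      rw [hw]; exact x.2
    refine ⟨⟨w, hwO⟩, Subtype.ext ?_⟩
    exact (Scheme.Hom.comp_apply (j ∣_ O) O.ι ⟨w, hwO⟩).symm.trans
      (((congrArg (fun m : (j ⁻¹ᵁ O : Scheme.{u}) ⟶ Z => m ⟨w, hwO⟩) (morphismRestrict_ι j O))).trans hw)
  have hr : Set.range ((j ⁻¹ᵁ O).ι ≫ ψ) ⊆ Set.range (q ⁻¹ᵁ V).ι := by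
    rintro _ ⟨w, rfl⟩
    rw [Scheme.Opens.range_ι]
    change q (ψ w.1) ∈ V
    rw [← Scheme.Hom.comp_apply, hψ]
    exact hO w.2
  obtain ⟨g₀, hg₀, huniq⟩ := existsUnique_extend_affine (j ∣_ O) hU'
    (IsOpenImmersion.lift (q ⁻¹ᵁ V).ι ((j ⁻¹ᵁ O).ι ≫ ψ) hr)
  have hkey : (g₀ ≫ (q ⁻¹ᵁ V).ι) ≫ q = O.ι ≫ p := by
    have hOV : Set.range (O.ι ≫ p) ⊆ Set.range V.ι := by
      rintro _ ⟨w, rfl⟩
      rw [Scheme.Opens.range_ι]
      exact hO w.2
    have h1 := existsUnique_extend_affine (j ∣_ O) hU' ((j ∣_ O) ≫ IsOpenImmersion.lift V.ι (O.ι ≫ p) hOV)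
    have h2 : g₀ ≫ (q ∣_ V) = IsOpenImmersion.lift V.ι (O.ι ≫ p) hOV := h1.unique (by
      show (j ∣_ O) ≫ g₀ ≫ (q ∣_ V) = (j ∣_ O) ≫ IsOpenImmersion.lift V.ι (O.ι ≫ p) hOV
      rw [← cancel_mono V.ι]
      simp only [Category.assoc, IsOpenImmersion.lift_fac, morphismRestrict_ι]
      rw [← Category.assoc (j ∣_ O) g₀, hg₀, IsOpenImmersion.lift_fac_assoc, Category.assoc, hψ,
        ← Category.assoc (j ∣_ O), morphismRestrict_ι]
      rw [Category.assoc]) rfl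
    rw [Category.assoc, ← morphismRestrict_ι, ← Category.assoc, h2, IsOpenImmersion.lift_fac]
  refine ⟨g₀ ≫ (q ⁻¹ᵁ V).ι, ⟨hkey, ?_⟩, ?_⟩
  · rw [← Category.assoc, hg₀, IsOpenImmersion.lift_fac]
  · rintro g ⟨hg1, hg2⟩
    have hgr : Set.range g ⊆ Set.range (q ⁻¹ᵁ V).ι := by
      rintro _ ⟨w, rfl⟩
      rw [Scheme.Opens.range_ι]
      change q (g w) ∈ V
      rw [← Scheme.Hom.comp_apply, hg1]
      exact hO w.2
    have h3 : IsOpenImmersion.lift (q ⁻¹ᵁ V).ι g hgr = g₀ := huniq _ (by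
      show (j ∣_ O) ≫ IsOpenImmersion.lift (q ⁻¹ᵁ V).ι g hgr = _
      rw [← cancel_mono (q ⁻¹ᵁ V).ι, Category.assoc, IsOpenImmersion.lift_fac, IsOpenImmersion.lift_fac]
      exact hg2.symm)
    rw [← h3, IsOpenImmersion.lift_fac]

include hU in
theorem eq_of_comp_eq (a b : Z ⟶ G) (ha : a ≫ q = p) (hb : b ≫ q = p) (hab : j ≫ a = j ≫ b) :
    a = b := by
  let V : Z → S.Opens := fun z => (exists_isAffineOpen_mem_and_subset (X := S) (x := p z) (U := ⊤) trivial).choose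
  have hV := fun z => (exists_isAffineOpen_mem_and_subset (X := S) (x := p z) (U := ⊤) trivial).choose_spec
  refine Scheme.Cover.hom_ext (Z.openCoverOfIsOpenCover (fun z => p ⁻¹ᵁ V z)
    (IsOpenCover.mk (eq_top_iff.mpr fun z _ => Opens.mem_iSup.mpr ⟨z, (hV z).2.1⟩))) _ _ fun z => ?_
  change (p ⁻¹ᵁ V z).ι ≫ a = (p ⁻¹ᵁ V z).ι ≫ b
  refine (existsUnique_extend_piece p q j hU (V z) (hV z).1 _ le_rfl (j ≫ a)
    (by rw [Category.assoc, ha])).unique ⟨by rw [Category.assoc, ha], ?_⟩ ⟨by rw [Category.assoc, hb], ?_⟩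
  · rw [morphismRestrict_ι_assoc]
  · rw [morphismRestrict_ι_assoc, hab]

include hU in
/-- Morphisms over a base to a scheme affine over it extend uniquely across depth two. -/
theorem existsUnique_extend_over (ψ : P ⟶ G) (hψ : ψ ≫ q = j ≫ p) :
    ∃! g : Z ⟶ G, g ≫ q = p ∧ j ≫ g = ψ := by
  let V : Z → S.Opens := fun z => (exists_isAffineOpen_mem_and_subset (X := S) (x := p z) (U := ⊤) trivial).choose
  have hV := fun z => (exists_isAffineOpen_mem_and_subset (X := S) (x := p z) (U := ⊤) trivial).choose_spec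
  let 𝒰 := Z.openCoverOfIsOpenCover (fun z => p ⁻¹ᵁ V z)
    (IsOpenCover.mk (eq_top_iff.mpr fun z _ => Opens.mem_iSup.mpr ⟨z, (hV z).2.1⟩))
  choose g hg hguniq using fun z => existsUnique_extend_piece p q j hU (V z) (hV z).1 _ le_rfl ψ hψ
  have hglue : ∀ x y : Z, pullback.fst (p ⁻¹ᵁ V x).ι (p ⁻¹ᵁ V y).ι ≫ g x =
      pullback.snd (p ⁻¹ᵁ V x).ι (p ⁻¹ᵁ V y).ι ≫ g y := by
    intro x y
    let Ox := p ⁻¹ᵁ V x
    let Oy := p ⁻¹ᵁ V y
    let O := Ox ⊓ Oy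
    have hx := (existsUnique_extend_piece p q j hU (V x) (hV x).1 O inf_le_left ψ hψ).unique
      (y₁ := Z.homOfLE (inf_le_left : O ≤ Ox) ≫ g x) (y₂ := Z.homOfLE (inf_le_right : O ≤ Oy) ≫ g y)
      ⟨by rw [Category.assoc, (hg x).1, Scheme.homOfLE_ι_assoc], ?_⟩
      ⟨by rw [Category.assoc, (hg y).1, Scheme.homOfLE_ι_assoc], ?_⟩
    · let e := (IsPullback.isoPullback (isPullback_opens_inf Ox Oy))
      rw [← cancel_epi e.hom, ← Category.assoc, ← Category.assoc,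
        IsPullback.isoPullback_hom_fst, IsPullback.isoPullback_hom_snd]
      exact hx
    · have h : (j ⁻¹ᵁ O).ι ≫ ψ = P.homOfLE (j.preimage_mono (inf_le_left : O ≤ Ox)) ≫ (j ∣_ Ox) ≫ g x := by
        refine Eq.trans ?_ (congrArg (fun m => P.homOfLE (j.preimage_mono (inf_le_left : O ≤ Ox)) ≫ m) (hg x).2)
        exact (Scheme.homOfLE_ι_assoc P _ ψ).symm
      rw [h, ← Category.assoc, ← Category.assoc]
      congr 1
      rw [← cancel_mono Ox.ι, Category.assoc, Category.assoc, morphismRestrict_ι, Scheme.homOfLE_ι,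
        morphismRestrict_ι, Scheme.homOfLE_ι_assoc]
    · have h : (j ⁻¹ᵁ O).ι ≫ ψ = P.homOfLE (j.preimage_mono (inf_le_right : O ≤ Oy)) ≫ (j ∣_ Oy) ≫ g y := by
        refine Eq.trans ?_ (congrArg (fun m => P.homOfLE (j.preimage_mono (inf_le_right : O ≤ Oy)) ≫ m) (hg y).2)
        exact (Scheme.homOfLE_ι_assoc P _ ψ).symm
      rw [h, ← Category.assoc, ← Category.assoc]
      congr 1
      rw [← cancel_mono Oy.ι, Category.assoc, Category.assoc, morphismRestrict_ι, Scheme.homOfLE_ι,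
        morphismRestrict_ι, Scheme.homOfLE_ι_assoc]
  refine ⟨𝒰.glueMorphisms g hglue, ⟨?_, ?_⟩, ?_⟩
  · refine Scheme.Cover.hom_ext 𝒰 _ _ fun z => ?_
    rw [← Category.assoc]; erw [Scheme.Cover.ι_glueMorphisms]
    exact (hg z).1
  · refine Scheme.Cover.hom_ext (P.openCoverOfIsOpenCover (fun z => j ⁻¹ᵁ (p ⁻¹ᵁ V z))
      (IsOpenCover.mk (eq_top_iff.mpr fun w _ => Opens.mem_iSup.mpr ⟨j w, (hV (j w)).2.1⟩))) _ _ fun z => ?_
    change (j ⁻¹ᵁ (p ⁻¹ᵁ V z)).ι ≫ j ≫ _ = (j ⁻¹ᵁ (p ⁻¹ᵁ V z)).ι ≫ ψ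
    rw [← morphismRestrict_ι_assoc]
    exact (congrArg (fun m => (j ∣_ (p ⁻¹ᵁ V z)) ≫ m) (Scheme.Cover.ι_glueMorphisms 𝒰 g hglue z)).trans (hg z).2.symm
  · rintro g' ⟨h1, h2⟩
    refine Scheme.Cover.hom_ext 𝒰 _ _ fun z => ?_
    erw [Scheme.Cover.ι_glueMorphisms]
    refine hguniq z _ ⟨?_, ?_⟩
    · change ((p ⁻¹ᵁ V z).ι ≫ g') ≫ q = _
      rw [Category.assoc, h1]
    · change _ = (j ∣_ (p ⁻¹ᵁ V z)) ≫ (p ⁻¹ᵁ V z).ι ≫ g'
      rw [morphismRestrict_ι_assoc, h2]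

end Groth.Agent.PairExtend
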